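import Groth.Agent.QuadSplitLib.Even
import Mathlib.RingTheory.Finiteness.ModuleFinitePresentation
import Mathlib.RingTheory.Flat.FaithfullyFlat.Algebra
import Mathlib.LinearAlgebra.Matrix.Reindex
import Mathlib.LinearAlgebra.Matrix.SchurComplement
import Mathlib.Algebra.Group.Pi.Units

/-!
# Semiregular forms of odd rank are fppf-locally split
-/

set_option autoImplicit false
set_option backward.isDefEq.respectTransparency false

universe u

open Groth.Agent.CliffRegLib QuadraticMap

namespace Groth.Agent.QuadSplitLib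

variable {n : ℕ} {R : Type u} [CommRing R]

/-- The indexing `Fin 2 ⊕ Fin k ≃ Fin (k + 2)`. -/
def extEquiv (k : ℕ) : Fin 2 ⊕ Fin k ≃ Fin (k + 2) :=
  finSumFinEquiv.trans (finCongr (add_comm 2 k))

/-- The triangular matrix of a hyperbolic plane followed by a form. -/
noncomputable def extMat {k : ℕ} (a : Sym2 (Fin k) → R) : Matrix (Fin (k + 2)) (Fin (k + 2)) R :=
  (Matrix.fromBlocks !![0, 1; 0, 0] 0 0 (upMat a)).submatrix (extEquiv k).symm (extEquiv k).symm

lemma upMat_add_transpose {k : ℕ} (a : Sym2 (Fin k) → R) :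
    upMat a + (upMat a).transpose = QuadGrpLib.polarOf a := by
  ext i j
  rw [Matrix.add_apply, Matrix.transpose_apply, upMat, QuadGrpLib.polarOf, Matrix.of_apply,
    Matrix.of_apply, Matrix.of_apply]
  rcases lt_trichotomy i j with h | h | h
  · simp [h, h.ne, h.ne', h.not_gt]
  · subst h; simp [two_mul]
  · simp [h, h.ne, h.ne', h.not_gt, Sym2.eq_swap]

lemma map_upMat {k : ℕ} {T : Type*} {S : Type*} [CommRing T] [CommRing S] (f : T →+* S)
    (a : Sym2 (Fin k) → T) :
    (upMat a).map f = upMat (f ∘ a) := by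
  ext i j
  rw [Matrix.map_apply, upMat, upMat, Matrix.of_apply, Matrix.of_apply]
  split_ifs <;> simp

theorem hd_ext {k : ℕ} (hk : Odd k) (a : Sym2 (Fin k) → R) :
    QuadGrpLib.hd (QuadGrpLib.co (extMat a)) = -QuadGrpLib.hd a := by
  classical
  let U := MvPolynomial (Sym2 (Fin k)) ℤ
  let a₀ : Sym2 (Fin k) → U := MvPolynomial.X
  have hk2 : Odd (k + 2) := by obtain ⟨r, rfl⟩ := hk; exact ⟨r + 1, by ring⟩
  have h2 : (2 : U) ≠ 0 := fun h => by
    have := congrArg (MvPolynomial.constantCoeff : U →+* ℤ) h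
    simp [map_ofNat] at this
  have huniv : QuadGrpLib.hd (QuadGrpLib.co (extMat a₀)) = -QuadGrpLib.hd a₀ := by
    apply mul_left_cancel₀ h2
    rw [QuadGrpLib.two_mul_hd hk2, mul_neg, QuadGrpLib.two_mul_hd hk, QuadGrpLib.polarOf_co, extMat,
      Matrix.transpose_submatrix, show
        (Matrix.fromBlocks !![0, 1; 0, 0] 0 0 (upMat a₀)).submatrix (extEquiv k).symm (extEquiv k).symm +
          (Matrix.fromBlocks !![0, 1; 0, 0] 0 0 (upMat a₀)).transpose.submatrix (extEquiv k).symm (extEquiv k).symm =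
        (Matrix.fromBlocks !![0, 1; 0, 0] 0 0 (upMat a₀) +
          (Matrix.fromBlocks !![0, 1; 0, 0] 0 0 (upMat a₀)).transpose).submatrix (extEquiv k).symm (extEquiv k).symm
        from rfl, Matrix.det_submatrix_equiv_self]
    simp only [Pi.add_apply, Matrix.fromBlocks_transpose, Matrix.fromBlocks_add, Matrix.transpose_zero,
      add_zero, upMat_add_transpose]
    rw [Matrix.det_fromBlocks_zero₂₁, Matrix.det_fin_two]
    simp
    ring
  let f : U →+* R := MvPolynomial.eval₂Hom (Int.castRingHom R) a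
  have hf : f ∘ a₀ = a := funext fun x => MvPolynomial.eval₂Hom_X' _ _ _
  have h := congrArg f huniv
  rw [map_neg, QuadGrpLib.map_hd, QuadGrpLib.map_hd, hf] at h
  refine Eq.trans ?_ h
  congr 1
  rw [QuadGrpLib.map_co, extMat, extMat, ← Matrix.submatrix_map, Matrix.fromBlocks_map, map_upMat, hf]
  congr 1
  congr 2 <;> ext i j
  · fin_cases i <;> fin_cases j <;> simp

lemma hd_one (a : Sym2 (Fin 1) → R) : QuadGrpLib.hd a = a (Sym2.mk 0 0) := by
  let U := MvPolynomial (Sym2 (Fin 1)) ℤ
  let a₀ : Sym2 (Fin 1) → U := MvPolynomial.X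
  have h2 : (2 : U) ≠ 0 := fun h => by
    have := congrArg (MvPolynomial.constantCoeff : U →+* ℤ) h
    simp [map_ofNat] at this
  have huniv : QuadGrpLib.hd a₀ = a₀ (Sym2.mk 0 0) := by
    apply mul_left_cancel₀ h2
    rw [QuadGrpLib.two_mul_hd odd_one, Matrix.det_fin_one, QuadGrpLib.polarOf, Matrix.of_apply,
      if_pos rfl]
  let f : U →+* R := MvPolynomial.eval₂Hom (Int.castRingHom R) a
  have hf : f ∘ a₀ = a := funext fun x => MvPolynomial.eval₂Hom_X' _ _ _
  have h := congrArg f huniv
  rw [QuadGrpLib.map_hd, hf] at h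
  exact h.trans (MvPolynomial.eval₂Hom_X' _ _ _)

/-- Modulo a prime containing two, a form with all cross terms vanishing has vanishing half-discriminant. -/
lemma hd_mem_of_cross_mem (hn : Odd n) (h3 : 3 ≤ n) (a : Sym2 (Fin n) → R) {I : Ideal R}
    (h2 : (2 : R) ∈ I) (h : ∀ i j, i ≠ j → a (Sym2.mk i j) ∈ I) : QuadGrpLib.hd a ∈ I := by
  classical
  let U := MvPolynomial (Fin n) ℤ
  let D : Matrix (Fin n) (Fin n) U := Matrix.diagonal MvPolynomial.X
  have h2U : (2 : U) ≠ 0 := fun h => by
    have := congrArg (MvPolynomial.constantCoeff : U →+* ℤ) h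
    simp [map_ofNat] at this
  have huniv : QuadGrpLib.hd (QuadGrpLib.co D) = 2 ^ (n - 1) * ∏ i, MvPolynomial.X i := by
    apply mul_left_cancel₀ h2U
    rw [QuadGrpLib.two_mul_hd hn, QuadGrpLib.polarOf_co, Matrix.diagonal_transpose, Matrix.diagonal_add,
      Matrix.det_diagonal, ← mul_assoc, ← pow_succ', Nat.sub_add_cancel (by omega)]
    simp [← two_mul, Finset.prod_mul_distrib]
  let f : U →+* R ⧸ I := MvPolynomial.eval₂Hom (Int.castRingHom _)
    fun i => Ideal.Quotient.mk I (a (Sym2.mk i i))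
  have hq : f ∘ QuadGrpLib.co D = Ideal.Quotient.mk I ∘ a := by
    funext p
    induction p using Sym2.ind with
    | h i j =>
      rw [Function.comp_apply, Function.comp_apply, QuadGrpLib.co_mk]
      split_ifs with hij
      · subst hij
        simp only [D, Matrix.diagonal_apply_eq]
        exact MvPolynomial.eval₂Hom_X' _ _ _
      · simp only [D]
        rw [Matrix.diagonal_apply_ne _ hij, Matrix.diagonal_apply_ne _ (Ne.symm hij), add_zero, map_zero,
          Ideal.Quotient.eq_zero_iff_mem.2 (h i j hij)]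
  have h0 := congrArg f huniv
  rw [QuadGrpLib.map_hd, hq, ← QuadGrpLib.map_hd, map_mul, map_pow, map_ofNat,
    ← map_ofNat (Ideal.Quotient.mk I) 2, Ideal.Quotient.eq_zero_iff_mem.2 h2, zero_pow (by omega),
    zero_mul] at h0
  exact Ideal.Quotient.eq_zero_iff_mem.1 h0

/-- At every prime a semiregular form of rank at least three has a good pair of vectors. -/
theorem exists_disc_odd (hn : Odd n) (h3 : 3 ≤ n) (a : Sym2 (Fin n) → R) (ha : IsUnit (QuadGrpLib.hd a))
    (p : PrimeSpectrum R) :
    ∃ x y : Fin n → R, qf a x ∉ p.asIdeal ∧ disc (qf a) x y ∉ p.asIdeal := by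
  classical
  have hdp : QuadGrpLib.hd a ∉ p.asIdeal := fun h =>
    p.isPrime.ne_top (Ideal.eq_top_of_isUnit_mem _ h ha)
  by_cases h2 : (2 : R) ∈ p.asIdeal
  · obtain ⟨i, j, hij, hB⟩ : ∃ i j, i ≠ j ∧ a (Sym2.mk i j) ∉ p.asIdeal := by
      by_contra h
      push Not at h
      exact hdp (hd_mem_of_cross_mem hn h3 a h2 h)
    set u : Fin n → R := Pi.single i 1 with hu
    set w : Fin n → R := Pi.single j 1 with hw
    have hP : polar (qf a) u w = a (Sym2.mk i j) := by
      have := congrFun (congrFun (polarMat_qf a) i) j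
      rw [QuadGrpLib.polarMat, Matrix.of_apply, QuadGrpLib.polarOf, Matrix.of_apply, if_neg hij,
        Pi.basisFun_apply, Pi.basisFun_apply] at this
      exact this
    rw [← hP] at hB
    have h4 : (4 : R) ∈ p.asIdeal := by
      rw [show (4 : R) = 2 * 2 by norm_num]; exact Ideal.mul_mem_right _ _ h2
    have key : ∀ x y, polar (qf a) x y ∉ p.asIdeal → disc (qf a) x y ∉ p.asIdeal := fun x y hxy h => by
      have := Ideal.add_mem _ h (Ideal.mul_mem_right (qf a x * qf a y) _ h4)
      rw [disc, sub_add_cancel] at this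
      exact hxy ((p.isPrime.mem_or_mem this).elim id id)
    by_cases hQu : qf a u ∈ p.asIdeal
    · by_cases hQw : qf a w ∈ p.asIdeal
      · refine ⟨u + w, w, ?_, key _ _ ?_⟩
        · rw [QuadraticMap.map_add (qf a)]
          intro h
          have := Ideal.sub_mem _ h (Ideal.add_mem _ hQu hQw)
          rw [add_sub_cancel_left] at this
          exact hB this
        · rw [polar_add_left, polar_self, nsmul_eq_mul, Nat.cast_ofNat]
          intro h
          have := Ideal.sub_mem _ h (Ideal.mul_mem_right (qf a w) _ h2)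
          rw [add_sub_cancel_right] at this
          exact hB this
      · exact ⟨w, u, hQw, key _ _ (by rwa [polar_comm])⟩
    · exact ⟨u, w, hQu, key _ _ hB⟩
  · refine exists_disc' a (by omega) p ?_
    rw [← QuadGrpLib.two_mul_hd hn]
    exact fun h => (p.isPrime.mem_or_mem h).elim h2 hdp

/-- The normal form `c z² + Σ xⱼ yⱼ`. -/
def IsSplitOdd (B : Type u) [CommRing B] [Algebra R B] {m : ℕ} (a : Sym2 (Fin n) → R) (c : B) : Prop :=
  ∃ g : (Unit ⊕ (Fin m ⊕ Fin m) → B) ≃ₗ[B] (Fin n → B),
    ∀ x, bq B a (g x) = c * (x (Sum.inl ()) * x (Sum.inl ())) +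
      ∑ j : Fin m, x (Sum.inr (Sum.inl j)) * x (Sum.inr (Sum.inr j))

/-- The complement of a hyperbolic plane in a semiregular form is semiregular. -/
theorem isUnit_hd_complement {r : ℕ} (a : Sym2 (Fin (2 * r + 1 + 2)) → R) (ha : IsUnit (QuadGrpLib.hd a))
    (β : Module.Basis (Fin 2 ⊕ Fin (2 * r + 1)) R (Fin (2 * r + 1 + 2) → R))
    (h00 : qf a (β (Sum.inl 0)) = 0) (h11 : qf a (β (Sum.inl 1)) = 0)
    (h01 : polar (qf a) (β (Sum.inl 0)) (β (Sum.inl 1)) = 1)
    (horth : ∀ i l, polar (qf a) (β (Sum.inl i)) (β (Sum.inr l)) = 0) :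
    IsUnit (QuadGrpLib.hd (famCoeff (qf a) fun l => β (Sum.inr l))) := by
  classical
  set a' := famCoeff (qf a) fun l => β (Sum.inr l) with ha'
  let β' := β.reindex (extEquiv (2 * r + 1))
  let g : (Fin (2 * r + 1 + 2) → R) ≃ₗ[R] (Fin (2 * r + 1 + 2) → R) :=
    (Pi.basisFun R _).equiv β' (Equiv.refl _)
  have hg : ∀ i, g (Pi.basisFun R _ i) = β' i := fun i =>
    Module.Basis.equiv_apply _ _ _ _
  have hco : QuadGrp.coeffs (Pi.basisFun R (Fin (2 * r + 1 + 2))) (LinearEquiv.refl R R)
      ((qf a).comp g.toLinearMap) = QuadGrpLib.co (extMat a') := by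
    funext p
    induction p using Sym2.ind with
    | h i j =>
      obtain ⟨i, rfl⟩ := (extEquiv (2 * r + 1)).surjective i
      obtain ⟨j, rfl⟩ := (extEquiv (2 * r + 1)).surjective j
      have hβ : ∀ i, g (Pi.basisFun R _ (extEquiv (2 * r + 1) i)) = β i := fun i => by
        rw [hg, Module.Basis.reindex_apply, Equiv.symm_apply_apply]
      rw [QuadGrp.coeffs_mk, QuadGrpLib.co_mk, extMat]
      simp only [QuadraticMap.polar, QuadraticMap.comp_apply, LinearEquiv.coe_coe, map_add, hβ,
        Matrix.submatrix_apply, Equiv.symm_apply_apply, EmbeddingLike.apply_eq_iff_eq,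
        LinearEquiv.refl_apply]
      rcases i with i | i <;> rcases j with j | j
      · fin_cases i <;> fin_cases j
        · simp [h00]
        · simpa [QuadraticMap.polar] using h01
        · simpa [QuadraticMap.polar, polar_comm, add_comm, sub_right_comm] using h01
        · simp [h11]
      · simpa [QuadraticMap.polar] using horth i j
      · simpa [QuadraticMap.polar, add_comm, sub_right_comm] using horth j i
      · simp only [Sum.inr.injEq, Matrix.fromBlocks_apply₂₂, upMat, Matrix.of_apply]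
        rcases lt_trichotomy i j with h | h | h
        · simp [h, h.ne, h.ne', h.not_gt, ha', famCoeff_mk, QuadraticMap.polar]
        · subst h; simp [ha', famCoeff_mk]
        · simp [h, h.ne, h.ne', h.not_gt, ha', famCoeff_mk, QuadraticMap.polar, add_comm, sub_right_comm]
  have hcc : QuadGrp.coeffs (Pi.basisFun R (Fin (2 * r + 1 + 2))) (LinearEquiv.refl R R) (qf a) = a := by
    funext p
    induction p using Sym2.ind with
    | h i j =>
      rw [QuadGrp.coeffs_mk]
      have h := congrFun (congrFun (polarMat_qf a) i) j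
      rw [QuadGrpLib.polarMat, Matrix.of_apply, QuadGrpLib.polarOf, Matrix.of_apply] at h
      split_ifs with hij
      · subst hij
        rw [LinearEquiv.refl_apply, Pi.basisFun_apply, qf, LinearMap.BilinMap.toQuadraticMap_apply,
          Matrix.toBilin'_single, upMat, Matrix.of_apply, if_pos rfl]
      · rw [LinearEquiv.refl_apply, h, if_neg hij]
  have hdet : IsUnit (LinearMap.det g.toLinearMap) := g.isUnit_det'
  have hmain : QuadGrpLib.hd (QuadGrpLib.co (extMat a')) =
      LinearMap.det g.toLinearMap ^ 2 * QuadGrpLib.hd a := by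
    have := QuadGrpLib.halfDisc_comp (r + 1) (Pi.basisFun R (Fin (2 * r + 1 + 2))) (qf a) g.toLinearMap
    change QuadGrpLib.hd (QuadGrp.coeffs _ _ _) = _ * QuadGrpLib.hd (QuadGrp.coeffs _ _ _) at this
    rwa [hco, hcc] at this
  rw [hd_ext ⟨r, rfl⟩] at hmain
  have := (hdet.pow 2).mul ha
  rw [← hmain] at this
  exact IsUnit.neg_iff _ |>.1 this

/-- A semiregular form is `c z²` plus a hyperbolic form over an étale neighbourhood of every prime. -/
theorem exists_split_at_odd : ∀ (m : ℕ) {n : ℕ}, n = 2 * m + 1 → ∀ {R : Type u} [CommRing R]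
    (a : Sym2 (Fin n) → R), IsUnit (QuadGrpLib.hd a) → ∀ p : PrimeSpectrum R,
      ∃ (B : Type u) (_ : CommRing B) (_ : Algebra R B), Algebra.Etale R B ∧
        ∃ q : PrimeSpectrum B, q.asIdeal.comap (algebraMap R B) = p.asIdeal ∧
          ∃ c : B, IsUnit c ∧ IsSplitOdd (m := m) B a c := by
  intro m
  induction m with
  | zero =>
    intro n hn R _ a ha p
    obtain rfl : n = 1 := by omega
    refine ⟨R, inferInstance, Algebra.id R, inferInstance, p, by simp, a (Sym2.mk 0 0), ?_, ?_⟩
    · rw [← hd_one a]; exact ha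
    refine ⟨
      { toFun := fun x _ => x (Sum.inl ()), invFun := fun y _ => y 0
        map_add' := fun _ _ => rfl, map_smul' := fun _ _ => rfl
        left_inv := fun x => funext fun i => by rcases i with i | i | i <;> [rfl; exact i.elim0; exact i.elim0]
        right_inv := fun y => funext fun i => by rw [Subsingleton.elim i 0] }, fun x => ?_⟩
    simp only [bq, qf_apply, Fin.sum_univ_one, Fintype.sum_empty, add_zero, Finset.univ_eq_empty,
      Finset.sum_empty, upMat, Matrix.of_apply, if_true, Function.comp_apply, Algebra.algebraMap_self,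
      RingHom.id_apply, LinearEquiv.coe_mk, LinearMap.coe_mk, AddHom.coe_mk]
    ring
  | succ m ih =>
    intro n hn R _ a ha p
    obtain rfl : n = 2 * m + 1 + 2 := by omega
    classical
    obtain ⟨x, y, hx, hd⟩ := exists_disc_odd ⟨m + 1, by ring⟩ (by omega) a ha p
    obtain ⟨B, _, _, _, q, β, hq, h00, h11, h01, horth⟩ := exists_step (k := 2 * m + 1) a p hx hd
    set a' := famCoeff (bq B a) (fun l => β (Sum.inr l)) with ha'
    have hu : IsUnit (QuadGrpLib.hd a') := isUnit_hd_complement (algebraMap R B ∘ a)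
      (by rw [← QuadGrpLib.map_hd]; exact ha.map _) β h00 h11 h01 horth
    obtain ⟨B', _, _, _, q', hq', c, hc, g', hg'⟩ := ih rfl a' hu q
    letI : Algebra R B' := ((algebraMap B B').comp (algebraMap R B)).toAlgebra
    haveI : IsScalarTower R B B' := IsScalarTower.of_algebraMap_eq fun _ => rfl
    haveI : Algebra.Etale R B' := Algebra.Etale.comp R B B'
    haveI : Nontrivial B' := ⟨⟨0, 1, fun h => q'.isPrime.ne_top ((Ideal.eq_top_iff_one _).2
      (h ▸ Submodule.zero_mem _))⟩⟩
    obtain ⟨β', hβ'⟩ := exists_map_basis (B' := B') β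
    refine ⟨B', inferInstance, inferInstance, inferInstance, q', ?_, c, hc, ?_⟩
    · rw [IsScalarTower.algebraMap_eq R B B', ← Ideal.comap_comap, hq', hq]
    set Q' := bq B' a with hQ'
    let r : (Unit ⊕ (Fin (m + 1) ⊕ Fin (m + 1)) → B') →ₗ[B'] (Unit ⊕ (Fin m ⊕ Fin m) → B') :=
      LinearMap.funLeft B' B' (Sum.map id (Sum.map Fin.succ Fin.succ))
    let G : (Unit ⊕ (Fin (m + 1) ⊕ Fin (m + 1)) → B') → (Fin (2 * m + 1 + 2) → B') := fun x =>
      x (Sum.inr (Sum.inl 0)) • β' (Sum.inl 0) + x (Sum.inr (Sum.inr 0)) • β' (Sum.inl 1) +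
        ∑ l, g' (r x) l • β' (Sum.inr l)
    have hGlin : ∀ (c : B') x x', G (c • x + x') = c • G x + G x' := by
      intro c x x'
      simp only [G, map_add, map_smul, Pi.add_apply, Pi.smul_apply, smul_eq_mul, add_smul, mul_smul,
        Finset.sum_add_distrib, ← Finset.smul_sum, smul_add]
      abel
    let Glin : (Unit ⊕ (Fin (m + 1) ⊕ Fin (m + 1)) → B') →ₗ[B'] (Fin (2 * m + 1 + 2) → B') :=
      { toFun := G
        map_add' := fun x x' => by simpa using hGlin 1 x x'
        map_smul' := fun c x => by simpa [G] using hGlin c x 0 }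
    have hGsurj : Function.Surjective Glin := by
      intro v
      set d := g'.symm fun l => β'.repr v (Sum.inr l) with hd'
      let w : Unit ⊕ (Fin (m + 1) ⊕ Fin (m + 1)) → B' :=
        Sum.elim (fun u => d (Sum.inl u)) <|
          Sum.elim (Fin.cons (β'.repr v (Sum.inl 0)) (fun j => d (Sum.inr (Sum.inl j))))
            (Fin.cons (β'.repr v (Sum.inl 1)) (fun j => d (Sum.inr (Sum.inr j))))
      refine ⟨w, ?_⟩
      have hw : r w = d := by funext i; rcases i with i | i | i <;> rfl
      change G w = v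
      conv_rhs => rw [← β'.sum_repr v, Fintype.sum_sum_type, Fin.sum_univ_two]
      simp only [G, hw, hd', LinearEquiv.apply_symm_apply]
      rfl
    have hGinj : Function.Injective Glin := by
      let E : (Fin (2 * m + 1 + 2) → B') ≃ₗ[B'] (Unit ⊕ (Fin (m + 1) ⊕ Fin (m + 1)) → B') :=
        LinearEquiv.funCongrLeft B' B' (Fintype.equivOfCardEq (by simp; omega))
      have := OrzechProperty.injective_of_surjective_endomorphism (E.toLinearMap ∘ₗ Glin)
        (E.surjective.comp hGsurj)
      exact (E.injective.of_comp_iff _).1 this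
    refine ⟨LinearEquiv.ofBijective Glin ⟨hGinj, hGsurj⟩, fun x => ?_⟩
    change Q' (G x) = _
    have e00 : Q' (β' (Sum.inl 0)) = 0 := by rw [hβ', hQ', bq_ev', h00, map_zero]
    have e11 : Q' (β' (Sum.inl 1)) = 0 := by rw [hβ', hQ', bq_ev', h11, map_zero]
    have e01 : polar Q' (β' (Sum.inl 0)) (β' (Sum.inl 1)) = 1 := by
      rw [hβ', hβ', hQ', polar_bq_ev', h01, map_one]
    have eort : ∀ i, polar Q' (β' (Sum.inl i)) (∑ l, g' (r x) l • β' (Sum.inr l)) = 0 := by
      intro i
      rw [← QuadraticMap.polarBilin_apply_apply, map_sum]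
      refine Finset.sum_eq_zero fun l _ => ?_
      rw [map_smul, QuadraticMap.polarBilin_apply_apply, hβ', hβ', hQ', polar_bq_ev', horth, map_zero,
        smul_zero]
    have erest : Q' (∑ l, g' (r x) l • β' (Sum.inr l)) =
        c * (r x (Sum.inl ()) * r x (Sum.inl ())) +
          ∑ j : Fin m, r x (Sum.inr (Sum.inl j)) * r x (Sum.inr (Sum.inr j)) := by
      rw [← hg' (r x), ← qf_famCoeff Q' (fun l => β' (Sum.inr l)), bq, ha', famCoeff_map]
      simp only [hβ', hQ']
    simp only [G]
    rw [QuadraticMap.map_add Q', QuadraticMap.map_add Q', QuadraticMap.map_smul, QuadraticMap.map_smul,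
      polar_add_left, polar_smul_left, polar_smul_left, polar_smul_left, polar_smul_right, eort, eort,
      e00, e11, e01, erest, Fin.sum_univ_succ]
    simp [r]
    ring

/-- Adjoining a square root of `c` normalises `c z² + hyperbolic` to `z² + hyperbolic`. -/
theorem IsSplitOdd.sqrt {m : ℕ} {B A : Type u} [CommRing B] [Algebra R B] [CommRing A] [Algebra R A]
    [Algebra B A] [IsScalarTower R B A] [Nontrivial A] {a : Sym2 (Fin n) → R} {c : B}
    (h : IsSplitOdd (m := m) B a c) (hc : IsUnit c) (ω : A) (hω : ω * ω = algebraMap B A c)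
    (hspan : ∀ x : A, ∃ u v : B, x = algebraMap B A u + ω * algebraMap B A v) :
    IsSplitOdd (m := m) A a (1 : A) := by
  classical
  obtain ⟨g, hg⟩ := h
  obtain ⟨w, hw⟩ : IsUnit ω := (IsUnit.mul_iff.1 (hω ▸ hc.map (algebraMap B A))).1
  obtain ⟨γ, hγ⟩ := exists_map_basis (B' := A)
    ((Pi.basisFun B (Unit ⊕ (Fin m ⊕ Fin m))).map g)
  let L : (Unit ⊕ (Fin m ⊕ Fin m) → A) ≃ₗ[A] (Fin n → A) := γ.equivFun.symm
  let E : (Unit ⊕ (Fin m ⊕ Fin m) → B) → (Unit ⊕ (Fin m ⊕ Fin m) → A) :=
    fun v k => algebraMap B A (v k)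
  have hLE : ∀ v, L (E v) = ev B A (g v) := by
    intro v
    have hv : g v = ∑ k, v k • ((Pi.basisFun B (Unit ⊕ (Fin m ⊕ Fin m))).map g) k := by
      simp only [Module.Basis.map_apply, ← map_smul, ← map_sum]
      exact congrArg g ((Pi.basisFun B _).sum_repr v).symm
    rw [hv, map_sum, Module.Basis.equivFun_symm_apply]
    exact Finset.sum_congr rfl fun k _ => by rw [hγ, map_smul, algebraMap_smul]
  have hmain : ∀ u v : Unit ⊕ (Fin m ⊕ Fin m) → B, bq A a (L (E u + ω • E v)) =
      algebraMap B A c * ((E u + ω • E v) (Sum.inl ()) * (E u + ω • E v) (Sum.inl ())) +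
        ∑ j, (E u + ω • E v) (Sum.inr (Sum.inl j)) * (E u + ω • E v) (Sum.inr (Sum.inr j)) := by
    intro u v
    have hp : polar (bq B a) (g u) (g v) = 2 * c * (u (Sum.inl ()) * v (Sum.inl ())) +
        ∑ j : Fin m, (u (Sum.inr (Sum.inl j)) * v (Sum.inr (Sum.inr j)) +
          v (Sum.inr (Sum.inl j)) * u (Sum.inr (Sum.inr j))) := by
      rw [polar, ← map_add g, hg, hg, hg]
      simp only [Pi.add_apply, add_mul, mul_add, Finset.sum_add_distrib]
      ring
    rw [map_add, map_smul, hLE, hLE, QuadraticMap.map_add (bq A a), QuadraticMap.map_smul,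
      polar_smul_right, bq_ev', bq_ev', polar_bq_ev', hp, hg, hg, smul_eq_mul, smul_eq_mul]
    simp only [map_add, map_mul, map_ofNat, map_sum, E, Pi.add_apply, Pi.smul_apply, smul_eq_mul,
      mul_add, add_mul, Finset.mul_sum, Finset.sum_add_distrib]
    simp only [← hω]
    ring_nf
  let sc : Unit ⊕ (Fin m ⊕ Fin m) → Aˣ := Sum.elim (fun _ => w⁻¹) (fun _ => 1)
  let S : (Unit ⊕ (Fin m ⊕ Fin m) → A) ≃ₗ[A] (Unit ⊕ (Fin m ⊕ Fin m) → A) :=
    LinearEquiv.piCongrRight fun i => LinearEquiv.smulOfUnit (sc i)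
  refine ⟨S.trans L, fun x => ?_⟩
  choose u v huv using fun k => hspan (S x k)
  have hS : S x = E u + ω • E v := funext fun k => huv k
  rw [LinearEquiv.trans_apply, hS, hmain, ← hS, ← hω, ← hw, one_mul]
  simp only [S, sc, LinearEquiv.piCongrRight_apply, Sum.elim_inl, Sum.elim_inr]
  have h1 : ∀ y : A, LinearEquiv.smulOfUnit (1 : Aˣ) y = y := fun y => one_smul Aˣ y
  have h2 : LinearEquiv.smulOfUnit w⁻¹ (x (Sum.inl ())) = (↑w⁻¹ : A) * x (Sum.inl ()) := rfl
  simp only [h1, h2]
  congr 1
  calc (w : A) * w * ((↑w⁻¹ : A) * x (Sum.inl ()) * ((↑w⁻¹ : A) * x (Sum.inl ())))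
      = ((w : A) * ↑w⁻¹) * ((w : A) * ↑w⁻¹) * (x (Sum.inl ()) * x (Sum.inl ())) := by ring
    _ = _ := by rw [Units.mul_inv, one_mul, one_mul]

/-- Over a faithfully flat finitely presented extension a semiregular form is split. -/
theorem exists_split_odd {m : ℕ} (a : Sym2 (Fin (2 * m + 1)) → R) (ha : IsUnit (QuadGrpLib.hd a)) :
    ∃ (A : Type u) (_ : CommRing A) (_ : Algebra R A), Module.FaithfullyFlat R A ∧
      Algebra.FinitePresentation R A ∧ IsSplitOdd (m := m) A a (1 : A) := by
  classical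
  rcases subsingleton_or_nontrivial R with hR | hR
  · refine ⟨R, inferInstance, Algebra.id R, inferInstance, inferInstance,
      LinearEquiv.ofBijective (0 : (Unit ⊕ (Fin m ⊕ Fin m) → R) →ₗ[R] (Fin (2 * m + 1) → R))
        ⟨fun _ _ _ => Subsingleton.elim _ _, fun y => ⟨0, Subsingleton.elim _ _⟩⟩,
      fun _ => Subsingleton.elim _ _⟩
  choose B iC iA hE q hq c hc hS using fun p => exists_split_at_odd m rfl a ha p
  have hopen : ∀ p, IsOpen (Set.range (PrimeSpectrum.comap (algebraMap R (B p)))) := fun p => by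
    haveI := hE p
    exact PrimeSpectrum.isOpenMap_comap_of_hasGoingDown_of_finitePresentation.isOpen_range
  obtain ⟨T, hT⟩ := isCompact_univ.elim_finite_subcover _ hopen (fun p _ =>
    Set.mem_iUnion.2 ⟨p, q p, PrimeSpectrum.ext (hq p)⟩)
  choose g hg using hS
  let A₁ := ∀ s : {x // x ∈ T}, B s.1
  haveI : ∀ s : {x // x ∈ T}, Algebra.Etale R (B s.1) := fun s => hE _
  haveI : Algebra.Etale R A₁ := inferInstance
  haveI : Module.Flat R A₁ := inferInstance
  have hff : Module.FaithfullyFlat R A₁ := by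
    refine Module.FaithfullyFlat.of_comap_surjective fun p => ?_
    obtain ⟨p', hp', q', hq'⟩ := Set.mem_iUnion₂.1 (hT (Set.mem_univ p))
    exact ⟨PrimeSpectrum.comap (Pi.evalRingHom (fun s : {x // x ∈ T} => B s.1) ⟨p', hp'⟩) q', hq'⟩
  haveI := hff
  haveI : Nontrivial A₁ := (FaithfulSMul.algebraMap_injective R A₁).nontrivial
  let c₁ : A₁ := fun s => c s.1
  have hc₁ : IsUnit c₁ := Pi.isUnit_iff.2 fun s => hc s.1
  let A := QuadraticAlgebra A₁ c₁ 0
  haveI : Module.FaithfullyFlat A₁ A := inferInstance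
  haveI : Module.FinitePresentation A₁ A := Module.finitePresentation_of_projective _ _
  haveI : Algebra.FinitePresentation A₁ A := inferInstance
  haveI : IsScalarTower R A₁ A := IsScalarTower.of_algebraMap_eq fun _ => rfl
  refine ⟨A, inferInstance, inferInstance, Module.FaithfullyFlat.trans R A₁ A,
    Algebra.FinitePresentation.trans R A₁ A, ?_⟩
  let G₁ : (Unit ⊕ (Fin m ⊕ Fin m) → A₁) ≃ₗ[A₁] (Fin (2 * m + 1) → A₁) :=
    { toFun := fun x i s => g s.1 (fun k => x k s) i
      invFun := fun y k s => (g s.1).symm (fun i => y i s) k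
      map_add' := fun x y => by
        funext i s
        exact congrFun (map_add (g s.1) (fun k => x k s) (fun k => y k s)) i
      map_smul' := fun c x => by
        funext i s
        exact congrFun (map_smul (g s.1) (c s) (fun k => x k s)) i
      left_inv := fun x => by
        funext k s
        exact congrFun ((g s.1).symm_apply_apply (fun k => x k s)) k
      right_inv := fun y => by
        funext i s
        exact congrFun ((g s.1).apply_symm_apply (fun i => y i s)) i }
  have hG₁ : ∀ x, bq A₁ a (G₁ x) = c₁ * (x (Sum.inl ()) * x (Sum.inl ())) +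
      ∑ j, x (Sum.inr (Sum.inl j)) * x (Sum.inr (Sum.inr j)) := fun x => by
    funext s
    have h := hg s.1 (fun k => x k s)
    rw [bq, qf_apply] at h ⊢
    have hsum : ∀ {ι : Type} (S : Finset ι) (f : ι → A₁), (∑ i ∈ S, f i) s = ∑ i ∈ S, f i s :=
      fun S f => map_sum (Pi.evalRingHom (fun s : {x // x ∈ T} => B s.1) s) f S
    have hmul : ∀ u v : A₁, (u * v) s = u s * v s := fun _ _ => rfl
    have hadd : ∀ u v : A₁, (u + v) s = u s + v s := fun _ _ => rfl
    simp only [hsum, hmul, hadd]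
    refine Eq.trans ?_ h
    refine Finset.sum_congr rfl fun i _ => Finset.sum_congr rfl fun j _ => ?_
    simp only [upMat, Matrix.of_apply, Function.comp_apply]
    split_ifs <;> rfl
  let ω : A := ⟨0, 1⟩
  have hω : ω * ω = algebraMap A₁ A c₁ := by ext <;> simp [ω, A]
  exact IsSplitOdd.sqrt (A := A) ⟨G₁, hG₁⟩ hc₁ ω hω fun y =>
    ⟨y.re, y.im, by ext <;> simp [ω, A]⟩

end Groth.Agent.QuadSplitLib
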