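import Groth.Agent.QuadSplitLib.Odd
import Groth.Agent.CliffRegLib.DetDickson
import Groth.Prelude.Def_QuadGrp

/-!
# The base change of a form on a free coordinate module, and the split form
-/

set_option autoImplicit false
set_option backward.isDefEq.respectTransparency false

universe u

open Groth.Agent.CliffRegLib TensorProduct

namespace Groth.Agent.QuadSplitLib

variable {n : ℕ} {R : Type u} [CommRing R] (A : Type u) [CommRing A] [Algebra R A]

/-- The coordinates of the base change. -/
noncomputable def coordEquiv : (A ⊗[R] (Fin n → R)) ≃ₗ[A] (Fin n → A) :=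
  TensorProduct.piScalarRight R A A (Fin n)

lemma coordEquiv_tmul (v : Fin n → R) : coordEquiv A ((1 : A) ⊗ₜ[R] v) = ev R A v := by
  funext i
  simp [coordEquiv, Algebra.smul_def]

lemma baseChangeForm_one_tmul {M : Type u} [AddCommGroup M] [Module R M] [Module.Free R M]
    (Q : QuadraticForm R M) (v : M) :
    QuadGrp.baseChangeForm A Q ((1 : A) ⊗ₜ[R] v) = algebraMap R A (Q v) := by
  rw [QuadGrp.baseChangeForm, LinearMap.compQuadraticMap_apply, QuadGrp.baseChange_tmul,
    LinearEquiv.coe_coe, AlgebraTensorModule.rid_tmul, mul_one, Algebra.algebraMap_eq_smul_one]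

theorem baseChangeForm_eq (Q : QuadraticForm R (Fin n → R)) (x : A ⊗[R] (Fin n → R)) :
    QuadGrp.baseChangeForm A Q x =
      bq A (QuadGrp.coeffs (Pi.basisFun R (Fin n)) (LinearEquiv.refl R R) Q) (coordEquiv A x) := by
  have h : QuadGrp.baseChangeForm A Q =
      (bq A (QuadGrp.coeffs (Pi.basisFun R (Fin n)) (LinearEquiv.refl R R) Q)).comp
        (coordEquiv A).toLinearMap := by
    refine form_ext_basis ((Pi.basisFun R (Fin n)).baseChange A) (fun i => ?_) fun i j => ?_
    · rw [Module.Basis.baseChange_apply, QuadraticMap.comp_apply, LinearEquiv.coe_coe, coordEquiv_tmul,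
        bq_ev, qf_coeffs, baseChangeForm_one_tmul]
    · simp only [Module.Basis.baseChange_apply, QuadraticMap.polar, ← TensorProduct.tmul_add,
        QuadraticMap.comp_apply, LinearEquiv.coe_coe, coordEquiv_tmul, bq_ev, qf_coeffs,
        baseChangeForm_one_tmul]
  rw [h]
  rfl

/-- The indexing of the standard split form. -/
noncomputable def splitIdx (m : ℕ) : Unit ⊕ (Fin m ⊕ Fin m) ≃ Fin (2 * m + 1) :=
  Equiv.ofBijective
    (Sum.elim (fun _ => ⟨0, by omega⟩)
      (Sum.elim (fun j => ⟨2 * j.1 + 1, by omega⟩) (fun j => ⟨2 * j.1 + 2, by omega⟩)))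
    (by
      rw [Fintype.bijective_iff_injective_and_card]
      refine ⟨fun i j h => ?_, by simp; omega⟩
      rcases i with i | i | i <;> rcases j with j | j | j <;>
        simp only [Sum.elim_inl, Sum.elim_inr, Fin.mk.injEq] at h <;>
        first
          | rfl
          | omega
          | (have := Fin.ext (show i.1 = j.1 by omega); subst this; rfl))

lemma splitForm_apply (m : ℕ) (x : Fin (2 * m + 1) → R) :
    QuadGrp.splitForm R (2 * m + 1) x =
      x (splitIdx m (Sum.inl ())) * x (splitIdx m (Sum.inl ())) +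
        ∑ j, x (splitIdx m (Sum.inr (Sum.inl j))) * x (splitIdx m (Sum.inr (Sum.inr j))) := by
  have hd : (2 * m + 1) / 2 = m := by omega
  have hmod : (2 * m + 1) % 2 = 1 := by omega
  simp only [QuadGrp.splitForm, QuadraticMap.add_apply, dif_pos hmod, QuadraticMap.sum_apply]
  rw [add_comm]
  congr 1
  refine (Fintype.sum_equiv (finCongr hd.symm) _ _ fun j => ?_).symm
  simp only [QuadraticMap.linMulLin_apply, LinearMap.proj_apply, splitIdx, Equiv.ofBijective_apply,
    Sum.elim_inr, Sum.elim_inl, finCongr_apply, Fin.val_cast]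
  congr 2 <;> ext <;> simp only [Fin.val_cast] <;> omega

lemma bq_splitForm (m : ℕ) (x : Fin (2 * m + 1) → A) :
    bq A (QuadGrp.coeffs (Pi.basisFun R (Fin (2 * m + 1))) (LinearEquiv.refl R R)
      (QuadGrp.splitForm R (2 * m + 1))) x = QuadGrp.splitForm A (2 * m + 1) x := by
  have h : bq A (QuadGrp.coeffs (Pi.basisFun R (Fin (2 * m + 1))) (LinearEquiv.refl R R)
      (QuadGrp.splitForm R (2 * m + 1))) = QuadGrp.splitForm A (2 * m + 1) := by
    refine form_ext_basis (Pi.basisFun A (Fin (2 * m + 1))) (fun i => ?_) fun i j => ?_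
    · rw [show Pi.basisFun A (Fin (2 * m + 1)) i = ev R A (Pi.basisFun R (Fin (2 * m + 1)) i) from
        (compLeft_single i).symm, bq_ev, qf_coeffs, splitForm_apply, splitForm_apply]
      simp [map_sum]
    · have hs : ∀ k, Pi.basisFun A (Fin (2 * m + 1)) k = ev R A (Pi.basisFun R (Fin (2 * m + 1)) k) :=
        fun k => (compLeft_single k).symm
      rw [hs, hs, polar_bq_ev, qf_coeffs]
      simp only [QuadraticMap.polar, ← map_add, splitForm_apply]
      simp [map_sum]
  rw [h]

end Groth.Agent.QuadSplitLib
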