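import Groth.Agent.QuadSplitLib.Step
import Mathlib.RingTheory.Spectrum.Prime.Chevalley
import Mathlib.RingTheory.Smooth.Flat

/-!
# Regular forms of even rank are étale-locally split
-/

set_option autoImplicit false
set_option backward.isDefEq.respectTransparency false

universe u

open Groth.Agent.CliffRegLib QuadraticMap

namespace Groth.Agent.QuadSplitLib

variable {n : ℕ} {R : Type u} [CommRing R]

lemma polar_qf_sum (a : Sym2 (Fin n) → R) (x y : Fin n → R) :
    polar (qf a) x y = Matrix.vecMul x (QuadGrpLib.polarOf a) ⬝ᵥ y := by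
  classical
  conv_lhs => rw [← QuadraticMap.polarBilin_apply_apply, ← (Pi.basisFun R (Fin n)).sum_repr y, map_sum]
  refine Finset.sum_congr rfl fun j _ => ?_
  rw [map_smul, smul_eq_mul, mul_comm, QuadraticMap.polarBilin_apply_apply, QuadGrpLib.polar_eq_sum,
    polarMat_qf]
  simp only [Pi.basisFun_repr]
  rfl

lemma coord_mem_of_polar_mem (a : Sym2 (Fin n) → R) (ha : IsUnit (QuadGrpLib.polarOf a).det)
    {I : Ideal R} {x : Fin n → R} (h : ∀ y, polar (qf a) x y ∈ I) (i : Fin n) : x i ∈ I := by
  classical
  set P := QuadGrpLib.polarOf a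
  have hj : ∀ j, Matrix.vecMul x P j ∈ I := fun j => by
    have := h (Pi.single j 1)
    rwa [polar_qf_sum, dotProduct_single, mul_one] at this
  have hx : x = Matrix.vecMul (Matrix.vecMul x P) P⁻¹ := by
    rw [Matrix.vecMul_vecMul, Matrix.mul_nonsing_inv _ ha, Matrix.vecMul_one]
  rw [hx]
  change ∑ j, Matrix.vecMul x P j * P⁻¹ j i ∈ I
  exact Submodule.sum_mem _ fun j _ => I.mul_mem_right _ (hj j)

lemma coord_mem_of_polar_mem' (a : Sym2 (Fin n) → R) (p : PrimeSpectrum R)
    (ha : (QuadGrpLib.polarOf a).det ∉ p.asIdeal) {x : Fin n → R}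
    (h : ∀ y, polar (qf a) x y ∈ p.asIdeal) (i : Fin n) : x i ∈ p.asIdeal := by
  classical
  set P := QuadGrpLib.polarOf a
  have hj : ∀ j, Matrix.vecMul x P j ∈ p.asIdeal := fun j => by
    have := h (Pi.single j 1)
    rwa [polar_qf_sum, dotProduct_single, mul_one] at this
  refine (p.isPrime.mem_or_mem (?_ : P.det * x i ∈ p.asIdeal)).resolve_left ha
  have hx : Matrix.vecMul (Matrix.vecMul x P) P.adjugate = P.det • x := by
    rw [Matrix.vecMul_vecMul, Matrix.mul_adjugate, Matrix.vecMul_smul, Matrix.vecMul_one]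
  have := congrFun hx i
  rw [Pi.smul_apply, smul_eq_mul] at this
  rw [← this]
  change ∑ j, Matrix.vecMul x P j * P.adjugate j i ∈ p.asIdeal
  exact Submodule.sum_mem _ fun j _ => Ideal.mul_mem_right _ _ (hj j)

/-- At every prime there are two vectors spanning a binary subform with invertible discriminant. -/
theorem exists_disc' (a : Sym2 (Fin n) → R) (hn : 2 ≤ n) (p : PrimeSpectrum R)
    (ha : (QuadGrpLib.polarOf a).det ∉ p.asIdeal) :
    ∃ x y : Fin n → R, qf a x ∉ p.asIdeal ∧ disc (qf a) x y ∉ p.asIdeal := by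
  classical
  obtain ⟨x, hx⟩ : ∃ x, qf a x ∉ p.asIdeal := by
    by_contra h
    push Not at h
    have hp : ∀ v w, polar (qf a) v w ∈ p.asIdeal := fun v w =>
      Ideal.sub_mem _ (Ideal.sub_mem _ (h _) (h _)) (h _)
    have := coord_mem_of_polar_mem' a p ha (x := Pi.single (⟨0, by omega⟩ : Fin n) 1) (hp _) ⟨0, by omega⟩
    rw [Pi.single_eq_same] at this
    exact p.isPrime.ne_top ((Ideal.eq_top_iff_one _).2 this)
  by_contra h
  push Not at h
  have hd : ∀ y, disc (qf a) x y ∈ p.asIdeal := fun y => h x y hx
  have hall : ∀ i, polar (qf a) x (Pi.single i 1) ∈ p.asIdeal := by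
    intro i
    by_cases h2 : (2 : R) ∈ p.asIdeal
    · refine (p.isPrime.mem_or_mem (?_ : polar (qf a) x (Pi.single i 1) * polar (qf a) x (Pi.single i 1) ∈ p.asIdeal)).elim id id
      have h4 : (4 : R) * (qf a x * qf a (Pi.single i 1)) ∈ p.asIdeal :=
        Ideal.mul_mem_right _ _ (by rw [show (4 : R) = 2 * 2 by norm_num]; exact Ideal.mul_mem_right _ _ h2)
      have := Ideal.add_mem _ (hd (Pi.single i 1)) h4
      rwa [disc, sub_add_cancel] at this
    · obtain ⟨j, hji⟩ : ∃ j : Fin n, j ≠ i := by
        haveI : Nontrivial (Fin n) := Fin.nontrivial_iff_two_le.2 hn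
        exact exists_ne i
      set y' : Fin n → R := polar (qf a) x (Pi.single i 1) • Pi.single j 1 +
        (-polar (qf a) x (Pi.single j 1)) • Pi.single i 1 with hy'
      have hxy' : polar (qf a) x y' = 0 := by
        rw [hy', polar_add_right, polar_smul_right, polar_smul_right, smul_eq_mul, smul_eq_mul]
        ring
      have hmem : ∀ y, polar (qf a) y' y ∈ p.asIdeal := by
        intro y
        have h4 : (4 : R) * qf a x * polar (qf a) y y' ∈ p.asIdeal := by
          have := Ideal.sub_mem _ (Ideal.sub_mem _ (hd (y + y')) (hd y)) (hd y')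
          have hE : disc (qf a) x (y + y') - disc (qf a) x y - disc (qf a) x y' =
              -((4 : R) * qf a x * polar (qf a) y y') := by
            simp only [disc, polar_add_right, hxy', add_zero, QuadraticMap.map_add (qf a)]
            ring
          rw [hE] at this
          exact neg_mem_iff.1 this
        rcases p.isPrime.mem_or_mem h4 with h5 | h5
        · rcases p.isPrime.mem_or_mem h5 with h6 | h6
          · rw [show (4 : R) = 2 * 2 by norm_num] at h6
            exact absurd ((p.isPrime.mem_or_mem h6).elim id id) h2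
          · exact absurd h6 hx
        · rwa [polar_comm]
      have := coord_mem_of_polar_mem' a p ha hmem j
      simpa [hy', Pi.single_eq_of_ne hji] using this
  have hxI : ∀ y, polar (qf a) x y ∈ p.asIdeal := fun y => by
    rw [← QuadraticMap.polarBilin_apply_apply, ← (Pi.basisFun R (Fin n)).sum_repr y, map_sum]
    refine Submodule.sum_mem _ fun j _ => ?_
    rw [map_smul, smul_eq_mul, Pi.basisFun_apply, QuadraticMap.polarBilin_apply_apply]
    exact Ideal.mul_mem_left _ _ (hall j)
  refine hx ?_
  rw [qf_apply]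
  exact Submodule.sum_mem _ fun i _ => Submodule.sum_mem _ fun j _ =>
    Ideal.mul_mem_right _ _ (Ideal.mul_mem_right _ _ (coord_mem_of_polar_mem' a p ha hxI i))

theorem exists_disc (a : Sym2 (Fin n) → R) (hn : 2 ≤ n) (ha : IsUnit (QuadGrpLib.polarOf a).det)
    (p : PrimeSpectrum R) :
    ∃ x y : Fin n → R, qf a x ∉ p.asIdeal ∧ disc (qf a) x y ∉ p.asIdeal :=
  exists_disc' a hn p fun h => p.isPrime.ne_top (Ideal.eq_top_of_isUnit_mem _ h ha)

/-- The coefficient table of a family of vectors. -/
noncomputable def famCoeff {k : ℕ} {M : Type u} [AddCommGroup M] [Module R M] (Q : QuadraticForm R M)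
    (c : Fin k → M) : Sym2 (Fin k) → R :=
  QuadGrp.coeffs (Pi.basisFun R (Fin k)) (LinearEquiv.refl R R)
    (Q.comp ((Pi.basisFun R (Fin k)).constr R c))

lemma qf_famCoeff {k : ℕ} {M : Type u} [AddCommGroup M] [Module R M] (Q : QuadraticForm R M)
    (c : Fin k → M) (x : Fin k → R) : qf (famCoeff Q c) x = Q (∑ l, x l • c l) := by
  rw [famCoeff, qf_coeffs, QuadraticMap.comp_apply, Module.Basis.constr_apply_fintype]
  simp

lemma famCoeff_mk {k : ℕ} {M : Type u} [AddCommGroup M] [Module R M] (Q : QuadraticForm R M)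
    (c : Fin k → M) (i j : Fin k) :
    famCoeff Q c (Sym2.mk i j) = if i = j then Q (c i) else polar Q (c i) (c j) := by
  rw [famCoeff, QuadGrp.coeffs_mk]
  simp only [LinearEquiv.refl_apply, QuadraticMap.polar, QuadraticMap.comp_apply, map_add,
    Module.Basis.constr_basis]

lemma famCoeff_map {k : ℕ} {B B' : Type u} [CommRing B] [Algebra R B] [CommRing B'] [Algebra R B']
    [Algebra B B'] [IsScalarTower R B B'] (a : Sym2 (Fin n) → R) (c : Fin k → (Fin n → B)) :
    algebraMap B B' ∘ famCoeff (bq B a) c = famCoeff (bq B' a) fun l => ev B B' (c l) := by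
  funext p
  induction p using Sym2.ind with
  | h i j => rw [Function.comp_apply, famCoeff_mk, famCoeff_mk, apply_ite (algebraMap B B'), bq_ev',
      polar_bq_ev']

/-- The images of a basis under extension of scalars form a basis. -/
lemma exists_map_basis {B B' : Type u} [CommRing B] [CommRing B'] [Algebra B B'] [Nontrivial B']
    {ι : Type} [Fintype ι] (β : Module.Basis ι B (Fin n → B)) :
    ∃ β' : Module.Basis ι B' (Fin n → B'), ∀ i, β' i = ev B B' (β i) := by
  classical
  haveI : Nontrivial B := (algebraMap B B').domain_nontrivial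
  have hcard : Fintype.card ι = Module.finrank B' (Fin n → B') := by
    rw [Module.finrank_fintype_fun_eq_card, ← Module.finrank_eq_card_basis β,
      Module.finrank_fintype_fun_eq_card]
  have hspan : ⊤ ≤ Submodule.span B' (Set.range fun i => ev B B' (β i)) := by
    rintro v -
    rw [← (Pi.basisFun B' (Fin n)).sum_repr v]
    refine Submodule.sum_mem _ fun j _ => Submodule.smul_mem _ _ ?_
    have : Pi.basisFun B' (Fin n) j = ev B B' (Pi.basisFun B (Fin n) j) :=
      (compLeft_single (R := B) (R' := B') j).symm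
    rw [this, ← β.sum_repr (Pi.basisFun B (Fin n) j), map_sum]
    refine Submodule.sum_mem _ fun i _ => ?_
    rw [map_smul, ← algebraMap_smul B' (β.repr (Pi.basisFun B (Fin n) j) i)]
    exact Submodule.smul_mem _ _ (Submodule.subset_span ⟨i, rfl⟩)
  exact ⟨basisOfTopLeSpanOfCardEqFinrank _ hspan hcard, fun i => by simp⟩

/-- The hyperbolic relations for a splitting equivalence. -/
def IsSplit (B : Type u) [CommRing B] [Algebra R B] {m : ℕ} (a : Sym2 (Fin n) → R) : Prop :=
  ∃ g : (Fin m ⊕ Fin m → B) ≃ₗ[B] (Fin n → B),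
    ∀ x, bq B a (g x) = ∑ j : Fin m, x (Sum.inl j) * x (Sum.inr j)

/-- A regular form of even rank is split over an étale neighbourhood of every prime. -/
theorem exists_split_at : ∀ (m : ℕ) {n : ℕ}, n = 2 * m → ∀ {R : Type u} [CommRing R]
    (a : Sym2 (Fin n) → R), IsUnit (QuadGrpLib.polarOf a).det → ∀ p : PrimeSpectrum R,
      ∃ (B : Type u) (_ : CommRing B) (_ : Algebra R B), Algebra.Etale R B ∧
        ∃ q : PrimeSpectrum B, q.asIdeal.comap (algebraMap R B) = p.asIdeal ∧
          IsSplit (m := m) B a := by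
  intro m
  induction m with
  | zero =>
    intro n hn R _ a _ p
    obtain rfl : n = 0 := by omega
    refine ⟨R, inferInstance, Algebra.id R, inferInstance, p, by simp, ?_, ?_⟩
    · exact
      { toFun := fun _ => 0, invFun := fun _ => 0
        map_add' := fun _ _ => Subsingleton.elim _ _, map_smul' := fun _ _ => Subsingleton.elim _ _
        left_inv := fun _ => funext fun i => i.elim (fun j => j.elim0) (fun j => j.elim0)
        right_inv := fun _ => funext fun i => i.elim0 }
    · intro x
      simp [bq, qf_apply]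
  | succ m ih =>
    intro n hn R _ a ha p
    obtain rfl : n = 2 * m + 2 := by omega
    classical
    obtain ⟨x, y, hx, hd⟩ := exists_disc a (by omega) ha p
    obtain ⟨B, _, _, _, q, β, hq, h00, h11, h01, horth⟩ := exists_step (k := 2 * m) a p hx hd
    have hsurj : Function.Surjective (bq B a).polarBilin := by
      refine polarBilin_surjective _ ?_
      rw [← QuadGrpLib.map_polarOf (algebraMap R B) a, ← RingHom.mapMatrix_apply, ← RingHom.map_det]
      exact ha.map _
    set a' := famCoeff (bq B a) (fun l => β (Sum.inr l)) with ha'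
    have hdet : IsUnit (QuadGrpLib.polarOf a').det := by
      choose v hv using fun j => hsurj (β.coord (Sum.inr j))
      refine Matrix.isUnit_det_of_left_inverse (B := Matrix.of fun j l => β.repr (v j) (Sum.inr l)) ?_
      ext j k
      have h := LinearMap.congr_fun (hv j) (β (Sum.inr k))
      rw [QuadraticMap.polarBilin_apply_apply, Module.Basis.coord_apply] at h
      simp only [Module.Basis.repr_self, Finsupp.single_apply] at h
      conv_lhs at h => rw [← β.sum_repr (v j), ← QuadraticMap.polarBilin_apply_apply, map_sum,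
        LinearMap.sum_apply, Fintype.sum_sum_type]
      simp only [map_smul, LinearMap.smul_apply, QuadraticMap.polarBilin_apply_apply, horth, smul_zero,
        Finset.sum_const_zero, zero_add, smul_eq_mul, mul_zero] at h
      rw [Matrix.mul_apply, Matrix.one_apply]
      have hif : (if Sum.inr k = (Sum.inr j : Fin 2 ⊕ Fin (2 * m)) then (1 : B) else 0) =
          if j = k then 1 else 0 := by simp [eq_comm]
      rw [← hif]
      refine Eq.trans ?_ h
      refine Finset.sum_congr rfl fun l _ => ?_
      rw [Matrix.of_apply]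
      congr 1
      rw [QuadGrpLib.polarOf, Matrix.of_apply, ha', famCoeff_mk]
      split_ifs with h1
      · subst h1
        rw [polar_self, nsmul_eq_mul, Nat.cast_ofNat]
      · rfl
    obtain ⟨B', _, _, _, q', hq', g', hg'⟩ := ih rfl a' hdet q
    let C := B'
    letI : Algebra R B' := ((algebraMap B B').comp (algebraMap R B)).toAlgebra
    haveI : IsScalarTower R B B' := IsScalarTower.of_algebraMap_eq fun _ => rfl
    haveI : Algebra.Etale R B' := Algebra.Etale.comp R B B'
    haveI : Nontrivial B' := ⟨⟨0, 1, fun h => q'.isPrime.ne_top ((Ideal.eq_top_iff_one _).2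
      (h ▸ Submodule.zero_mem _))⟩⟩
    obtain ⟨β', hβ'⟩ := exists_map_basis (B' := B') β
    refine ⟨B', inferInstance, inferInstance, inferInstance, q', ?_, ?_⟩
    · rw [IsScalarTower.algebraMap_eq R B B', ← Ideal.comap_comap, hq', hq]
    set Q' := bq B' a with hQ'
    let r : (Fin (m + 1) ⊕ Fin (m + 1) → B') →ₗ[B'] (Fin m ⊕ Fin m → B') :=
      LinearMap.funLeft B' B' (Sum.map Fin.succ Fin.succ)
    let G : (Fin (m + 1) ⊕ Fin (m + 1) → B') → (Fin (2 * m + 2) → B') := fun x =>
      x (Sum.inl 0) • β' (Sum.inl 0) + x (Sum.inr 0) • β' (Sum.inl 1) +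
        ∑ l, g' (r x) l • β' (Sum.inr l)
    have hGlin : ∀ (c : B') x x', G (c • x + x') = c • G x + G x' := by
      intro c x x'
      simp only [G, map_add, map_smul, Pi.add_apply, Pi.smul_apply, smul_eq_mul, add_smul, mul_smul,
        Finset.sum_add_distrib, ← Finset.smul_sum, smul_add]
      abel
    let Glin : (Fin (m + 1) ⊕ Fin (m + 1) → B') →ₗ[B'] (Fin (2 * m + 2) → B') :=
      { toFun := G
        map_add' := fun x x' => by simpa using hGlin 1 x x'
        map_smul' := fun c x => by simpa [G] using hGlin c x 0 }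
    have hGsurj : Function.Surjective Glin := by
      intro v
      set d := g'.symm fun l => β'.repr v (Sum.inr l) with hd'
      let w : Fin (m + 1) ⊕ Fin (m + 1) → B' :=
        Sum.elim (Fin.cons (β'.repr v (Sum.inl 0)) (fun j => d (Sum.inl j)))
          (Fin.cons (β'.repr v (Sum.inl 1)) (fun j => d (Sum.inr j)))
      refine ⟨w, ?_⟩
      have hw : r w = d := by funext i; rcases i with i | i <;> rfl
      change G w = v
      conv_rhs => rw [← β'.sum_repr v, Fintype.sum_sum_type, Fin.sum_univ_two]
      simp only [G, hw, hd', LinearEquiv.apply_symm_apply]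
      rfl
    have hGinj : Function.Injective Glin := by
      let E : (Fin (2 * m + 2) → B') ≃ₗ[B'] (Fin (m + 1) ⊕ Fin (m + 1) → B') :=
        LinearEquiv.funCongrLeft B' B' (finSumFinEquiv.trans (finCongr (by omega)))
      have := OrzechProperty.injective_of_surjective_endomorphism (E.toLinearMap ∘ₗ Glin)
        (E.surjective.comp hGsurj)
      exact (E.injective.of_comp_iff _).1 this
    refine ⟨LinearEquiv.ofBijective Glin ⟨hGinj, hGsurj⟩, fun x => ?_⟩
    change Q' (G x) = _
    have e00 : Q' (β' (Sum.inl 0)) = 0 := by rw [hβ', hQ', bq_ev', h00, map_zero]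
    have e11 : Q' (β' (Sum.inl 1)) = 0 := by rw [hβ', hQ', bq_ev', h11, map_zero]
    have e01 : polar Q' (β' (Sum.inl 0)) (β' (Sum.inl 1)) = 1 := by
      rw [hβ', hβ', hQ', polar_bq_ev', h01, map_one]
    have eort : ∀ i, polar Q' (β' (Sum.inl i)) (∑ l, g' (r x) l • β' (Sum.inr l)) = 0 := by
      intro i
      rw [← QuadraticMap.polarBilin_apply_apply, map_sum]
      refine Finset.sum_eq_zero fun l _ => ?_
      rw [map_smul, QuadraticMap.polarBilin_apply_apply, hβ', hβ', hQ', polar_bq_ev', horth, map_zero,
        smul_zero]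
    have erest : Q' (∑ l, g' (r x) l • β' (Sum.inr l)) =
        ∑ j : Fin m, r x (Sum.inl j) * r x (Sum.inr j) := by
      rw [← hg' (r x), ← qf_famCoeff Q' (fun l => β' (Sum.inr l)), bq, ha', famCoeff_map]
      simp only [hβ', hQ']
    simp only [G]
    rw [QuadraticMap.map_add Q', QuadraticMap.map_add Q', QuadraticMap.map_smul, QuadraticMap.map_smul,
      polar_add_left, polar_smul_left, polar_smul_left, polar_smul_left, polar_smul_right, eort, eort,
      e00, e11, e01, erest, Fin.sum_univ_succ]
    simp [r]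

/-- A faithfully flat étale extension splitting a regular form of even rank. -/
theorem exists_split_cover {m : ℕ} (a : Sym2 (Fin (2 * m)) → R)
    (ha : IsUnit (QuadGrpLib.polarOf a).det) :
    ∃ (t : ℕ) (B : Fin t → Type u) (_ : ∀ i, CommRing (B i)) (_ : ∀ i, Algebra R (B i)),
      (∀ i, Algebra.Etale R (B i)) ∧
      (∀ p : PrimeSpectrum R, ∃ (i : Fin t) (q : PrimeSpectrum (B i)),
        q.asIdeal.comap (algebraMap R (B i)) = p.asIdeal) ∧
      ∀ i, IsSplit (m := m) (B i) a := by
  classical
  choose B iC iA hE q hq hS using fun p => exists_split_at m rfl a ha p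
  have hopen : ∀ p, IsOpen (Set.range (PrimeSpectrum.comap (algebraMap R (B p)))) := fun p => by
    haveI := hE p
    haveI : Module.Flat R (B p) := inferInstance
    exact PrimeSpectrum.isOpenMap_comap_of_hasGoingDown_of_finitePresentation.isOpen_range
  obtain ⟨T, hT⟩ := isCompact_univ.elim_finite_subcover _ hopen (fun p _ =>
    Set.mem_iUnion.2 ⟨p, q p, PrimeSpectrum.ext (hq p)⟩)
  let e := T.equivFin
  refine ⟨T.card, fun i => B (e.symm i).1, fun i => iC _, fun i => iA _, fun i => hE _, fun p => ?_,
    fun i => hS _⟩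
  obtain ⟨p', hp', q', hq'⟩ := Set.mem_iUnion₂.1 (hT (Set.mem_univ p))
  have key : ∀ x : {x // x ∈ T}, x = ⟨p', hp'⟩ →
      ∃ q : PrimeSpectrum (B x.1), q.asIdeal.comap (algebraMap R (B x.1)) = p.asIdeal := by
    rintro x rfl
    exact ⟨q', congrArg PrimeSpectrum.asIdeal hq'⟩
  exact ⟨e ⟨p', hp'⟩, key _ (e.symm_apply_apply _)⟩

end Groth.Agent.QuadSplitLib
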