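import Groth.Agent.CliffRegLib.CentreElt
import Groth.Agent.CliffRegLib.SeparableQuad
import Groth.Agent.QuadGrpLib.Det
import Mathlib.Algebra.QuadraticAlgebra.Defs
import Mathlib.LinearAlgebra.Dimension.OrzechProperty
import Mathlib.RingTheory.Etale.Pi
import Mathlib.RingTheory.Flat.FaithfullyFlat.Algebra

/-!
# Splitting off a hyperbolic plane étale-locally
-/

set_option autoImplicit false
set_option backward.isDefEq.respectTransparency false

universe u

open Groth.Agent.CliffRegLib QuadraticMap

namespace Groth.Agent.QuadSplitLib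

variable {n : ℕ} {R : Type u} [CommRing R]

/-- Extension of scalars of a coefficient table, as a form. -/
noncomputable def bq (B : Type u) [CommRing B] [Algebra R B] (a : Sym2 (Fin n) → R) :
    QuadraticForm B (Fin n → B) := qf (algebraMap R B ∘ a)

/-- Extension of scalars of vectors. -/
noncomputable def ev (R B : Type u) [CommRing R] [CommRing B] [Algebra R B] :
    (Fin n → R) →ₗ[R] (Fin n → B) := (Algebra.linearMap R B).compLeft (Fin n)

@[simp] lemma ev_apply (B : Type u) [CommRing B] [Algebra R B] (x : Fin n → R) (i : Fin n) :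
    ev R B x i = algebraMap R B (x i) := rfl

lemma bq_ev (B : Type u) [CommRing B] [Algebra R B] (a : Sym2 (Fin n) → R) (x : Fin n → R) :
    bq B a (ev R B x) = algebraMap R B (qf a x) := map_qf a x

lemma polar_bq_ev (B : Type u) [CommRing B] [Algebra R B] (a : Sym2 (Fin n) → R) (x y : Fin n → R) :
    polar (bq B a) (ev R B x) (ev R B y) = algebraMap R B (polar (qf a) x y) := by
  simp only [polar, ← map_add, bq_ev, map_sub]

lemma bq_map {B B' : Type u} [CommRing B] [Algebra R B] [CommRing B'] [Algebra R B'] [Algebra B B']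
    [IsScalarTower R B B'] (a : Sym2 (Fin n) → R) :
    bq B' (algebraMap R B ∘ a) = bq B' a := by
  rw [bq, bq, ← Function.comp_assoc, ← RingHom.coe_comp, ← IsScalarTower.algebraMap_eq]

lemma bq_ev' {B B' : Type u} [CommRing B] [Algebra R B] [CommRing B'] [Algebra R B'] [Algebra B B']
    [IsScalarTower R B B'] (a : Sym2 (Fin n) → R) (x : Fin n → B) :
    bq B' a (ev B B' x) = algebraMap B B' (bq B a x) := by
  rw [← bq_map (B := B) (B' := B') a, bq_ev]
  rfl

lemma polar_bq_ev' {B B' : Type u} [CommRing B] [Algebra R B] [CommRing B'] [Algebra R B']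
    [Algebra B B'] [IsScalarTower R B B'] (a : Sym2 (Fin n) → R) (x y : Fin n → B) :
    polar (bq B' a) (ev B B' x) (ev B B' y) = algebraMap B B' (polar (bq B a) x y) := by
  simp only [polar, ← map_add, bq_ev', map_sub]

/-- A prime of a localization away from an element outside a given prime. -/
lemma exists_prime_away (p : PrimeSpectrum R) {g : R} (hg : g ∉ p.asIdeal) :
    ∃ q : PrimeSpectrum (Localization.Away g),
      q.asIdeal.comap (algebraMap R (Localization.Away g)) = p.asIdeal := by
  have h : p ∈ Set.range (PrimeSpectrum.comap (algebraMap R (Localization.Away g))) := by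
    rw [PrimeSpectrum.localization_away_comap_range (Localization.Away g) g]
    exact hg
  obtain ⟨q, hq⟩ := h
  exact ⟨q, congrArg PrimeSpectrum.asIdeal hq⟩

/-- A binary discriminant. -/
noncomputable def disc {M : Type u} [AddCommGroup M] [Module R M] (Q : QuadraticForm R M) (x y : M) : R :=
  polar Q x y * polar Q x y - 4 * (Q x * Q y)

/-- A hyperbolic pair over a quadratic étale extension. -/
theorem exists_pair (a : Sym2 (Fin n) → R) (p : PrimeSpectrum R) {x y : Fin n → R}
    (hx : qf a x ∉ p.asIdeal) (hd : disc (qf a) x y ∉ p.asIdeal) :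
    ∃ (B : Type u) (_ : CommRing B) (_ : Algebra R B), Algebra.Etale R B ∧
      ∃ (q : PrimeSpectrum B) (e f : Fin n → B), q.asIdeal.comap (algebraMap R B) = p.asIdeal ∧
        bq B a e = 0 ∧ bq B a f = 0 ∧ polar (bq B a) e f = 1 := by
  classical
  set g := qf a x * disc (qf a) x y with hg
  have hgp : g ∉ p.asIdeal := fun h => (p.isPrime.mem_or_mem h).elim hx hd
  obtain ⟨p1, hp1⟩ := exists_prime_away p hgp
  set R1 := Localization.Away g with hR1
  have hu : IsUnit (algebraMap R R1 g) := IsLocalization.Away.algebraMap_isUnit g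
  rw [show algebraMap R R1 g = algebraMap R R1 (qf a x) * algebraMap R R1 (disc (qf a) x y) from
    map_mul _ _ _, IsUnit.mul_iff] at hu
  obtain ⟨⟨u, hu'⟩, hdu⟩ := hu
  set P := polar (qf a) x y with hP
  let s : R1 := -(↑u⁻¹ : R1) * algebraMap R R1 P
  let t : R1 := -(↑u⁻¹ : R1) * algebraMap R R1 (qf a y)
  have hst : s * s + 4 * t = (↑u⁻¹ : R1) * ↑u⁻¹ * algebraMap R R1 (disc (qf a) x y) := by
    simp only [s, t, disc, ← hP, map_sub, map_mul, map_ofNat, ← hu']
    linear_combination (4 * (↑u⁻¹ : R1) * algebraMap R R1 (qf a y)) * u.inv_mul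
  haveI : Nontrivial R1 := ⟨⟨0, 1, fun h => p1.isPrime.ne_top ((Ideal.eq_top_iff_one _).2
    (h ▸ Submodule.zero_mem _))⟩⟩
  let S := QuadraticAlgebra R1 t s
  let ω : S := ⟨0, 1⟩
  have G : QuadGen ω s t :=
    { sq := by ext <;> simp [ω, S]
      unit := by rw [hst]; exact ((u⁻¹).isUnit.mul (u⁻¹).isUnit).mul hdu
      span := fun c => ⟨c.im, c.re, by ext <;> simp [ω, S]⟩
      indep := fun c d h =>
        ⟨by simpa [ω, S] using congrArg QuadraticAlgebra.im h,
          by simpa [ω, S] using congrArg QuadraticAlgebra.re h⟩ }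
  haveI : IsScalarTower R R1 S := IsScalarTower.of_algebraMap_eq fun _ => rfl
  haveI : Algebra.Etale R R1 := Algebra.Etale.of_isLocalizationAway g
  haveI : Algebra.Etale R1 S := G.etale
  haveI : Algebra.Etale R S := Algebra.Etale.comp R R1 S
  obtain ⟨q, hq⟩ := PrimeSpectrum.comap_surjective_of_faithfullyFlat (A := R1) (B := S) p1
  have hqp : q.asIdeal.comap (algebraMap R S) = p.asIdeal := by
    rw [← hp1, ← hq, IsScalarTower.algebraMap_eq R R1 S, ← Ideal.comap_comap]
    rfl
  set X := ev R S x with hX
  set Y := ev R S y with hY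
  set X' := algebraMap R S (qf a x) with hX'
  set Y' := algebraMap R S (qf a y) with hY'
  set P' := algebraMap R S P with hP'
  set v := algebraMap R1 S (↑u⁻¹ : R1) with hv
  have huX : X' * v = 1 := by
    rw [hX', IsScalarTower.algebraMap_apply R R1 S, ← hu', ← map_mul, Units.mul_inv, map_one]
  have hω : ω * ω * X' + ω * P' + Y' = 0 := by
    have hsq := G.sq
    rw [Algebra.smul_def] at hsq
    simp only [s, t, map_mul, RingHom.map_neg, ← IsScalarTower.algebraMap_apply R R1 S] at hsq
    linear_combination X' * hsq - (P' * ω + Y') * huX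
  have heQ : bq S a (ω • X + Y) = 0 := by
    rw [QuadraticMap.map_add (bq S a), QuadraticMap.map_smul, polar_smul_left, hX, hY, bq_ev, bq_ev,
      polar_bq_ev, smul_eq_mul, smul_eq_mul, ← hX', ← hY', ← hP, ← hP']
    linear_combination hω
  set e := ω • X + Y with he
  set c := 2 * ω * X' + P' with hc
  have hpe : polar (bq S a) e X = c := by
    rw [he, polar_add_left, polar_smul_left, polar_self, polar_comm (bq S a) Y X, hX, hY, bq_ev,
      polar_bq_ev, ← hX', ← hP, ← hP', hc]
    simp only [smul_eq_mul, nsmul_eq_mul, Nat.cast_ofNat]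
    ring
  have hcu : IsUnit c := by
    have h : c * c = algebraMap R S (disc (qf a) x y) := by
      simp only [disc, map_sub, map_mul, map_ofNat, ← hP, ← hP', ← hX', ← hY', hc]
      linear_combination 4 * X' * hω
    have h' : IsUnit (c * c) := by
      rw [h, IsScalarTower.algebraMap_apply R R1 S]
      exact hdu.map _
    exact (IsUnit.mul_iff.1 h').1
  obtain ⟨w, hw⟩ := hcu
  set f₀ := (↑w⁻¹ : S) • X with hf₀
  have hef : polar (bq S a) e f₀ = 1 := by
    rw [hf₀, polar_smul_right, hpe, smul_eq_mul, ← hw, Units.inv_mul]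
  clear_value f₀
  refine ⟨S, inferInstance, inferInstance, inferInstance, q, e, f₀ - bq S a f₀ • e, hqp, heQ, ?_, ?_⟩
  · have key : ∀ r : S, bq S a (f₀ + (-r) • e) = bq S a f₀ - r := fun r => by
      rw [QuadraticMap.map_add (bq S a), QuadraticMap.map_smul, heQ, smul_zero, add_zero,
        polar_smul_right, polar_comm (bq S a) f₀ e, hef, smul_eq_mul, mul_one, ← sub_eq_add_neg]
    rw [sub_eq_add_neg, ← neg_smul, key, sub_self]
  · have key : ∀ r : S, polar (bq S a) e (f₀ + (-r) • e) = 1 := fun r => by
      rw [polar_add_right, polar_smul_right, polar_self, heQ, hef]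
      simp
    rw [sub_eq_add_neg, ← neg_smul, key]

/-- A hyperbolic pair extends to a basis with the other vectors orthogonal to it, Zariski-locally. -/
theorem exists_basis_of_pair {k : ℕ} (a : Sym2 (Fin (k + 2)) → R) (p : PrimeSpectrum R)
    {e f : Fin (k + 2) → R} (he : qf a e = 0) (hf : qf a f = 0) (hef : polar (qf a) e f = 1) :
    ∃ g, g ∉ p.asIdeal ∧
      ∃ β : Module.Basis (Fin 2 ⊕ Fin k) (Localization.Away g) (Fin (k + 2) → Localization.Away g),
        bq (Localization.Away g) a (β (Sum.inl 0)) = 0 ∧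
        bq (Localization.Away g) a (β (Sum.inl 1)) = 0 ∧
        polar (bq (Localization.Away g) a) (β (Sum.inl 0)) (β (Sum.inl 1)) = 1 ∧
        ∀ i l, polar (bq (Localization.Away g) a) (β (Sum.inl i)) (β (Sum.inr l)) = 0 := by
  classical
  have hee : polar (qf a) e e = 0 := by rw [polar_self, he, smul_zero]
  obtain ⟨i, j, hij⟩ : ∃ i j, e i * f j - e j * f i ∉ p.asIdeal := by
    by_contra h
    push Not at h
    have hei : ∀ i, e i ∈ p.asIdeal := by
      intro i
      have hv : polar (qf a) e (e i • f - f i • e) = e i := by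
        rw [sub_eq_add_neg, ← neg_smul, polar_add_right, polar_smul_right, polar_smul_right, hef, hee,
          smul_eq_mul, smul_eq_mul, mul_one, mul_zero, add_zero]
      rw [← hv, ← QuadraticMap.polarBilin_apply_apply, ← (Pi.basisFun R _).sum_repr (e i • f - f i • e),
        map_sum]
      refine Submodule.sum_mem _ fun j _ => ?_
      rw [map_smul, smul_eq_mul, Pi.basisFun_repr]
      refine Ideal.mul_mem_right _ _ ?_
      simpa [mul_comm] using h i j
    refine p.isPrime.ne_top ((Ideal.eq_top_iff_one _).2 ?_)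
    rw [← hef, ← QuadraticMap.polarBilin_apply_apply, ← (Pi.basisFun R _).sum_repr e, map_sum,
      LinearMap.sum_apply]
    refine Submodule.sum_mem _ fun j _ => ?_
    rw [map_smul, LinearMap.smul_apply, smul_eq_mul, Pi.basisFun_repr]
    exact Ideal.mul_mem_right _ _ (hei j)
  have hne : i ≠ j := fun h => hij (by rw [h, sub_self]; exact Submodule.zero_mem _)
  set g := e i * f j - e j * f i with hg
  refine ⟨g, hij, ?_⟩
  set A := Localization.Away g with hA
  haveI : Nontrivial A := by
    obtain ⟨q, -⟩ := exists_prime_away p hij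
    exact ⟨⟨0, 1, fun h => q.isPrime.ne_top ((Ideal.eq_top_iff_one _).2 (h ▸ Submodule.zero_mem _))⟩⟩
  set E := ev R A e with hE
  set F := ev R A f with hF
  have hEE : polar (bq A a) E E = 0 := by rw [hE, polar_bq_ev, hee, map_zero]
  have hFF : polar (bq A a) F F = 0 := by rw [hF, polar_bq_ev, polar_self, hf, smul_zero, map_zero]
  have hEF : polar (bq A a) E F = 1 := by rw [hE, hF, polar_bq_ev, hef, map_one]
  have hFE : polar (bq A a) F E = 1 := by rw [polar_comm, hEF]
  let π : (Fin (k + 2) → A) → (Fin (k + 2) → A) := fun v =>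
    v + (-polar (bq A a) F v) • E + (-polar (bq A a) E v) • F
  let s : Finset (Fin (k + 2)) := ({i, j} : Finset (Fin (k + 2)))ᶜ
  have hs : s.card = k := by
    rw [Finset.card_compl, Finset.card_pair hne, Fintype.card_fin]; omega
  let σ : Fin k → Fin (k + 2) := s.orderEmbOfFin hs
  let fam : Fin 2 ⊕ Fin k → (Fin (k + 2) → A) :=
    Sum.elim ![E, F] fun l => π (Pi.single (σ l) 1)
  have hspan : ⊤ ≤ Submodule.span A (Set.range fam) := by
    set T := Submodule.span A (Set.range fam)
    have hET : E ∈ T := Submodule.subset_span ⟨Sum.inl 0, rfl⟩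
    have hFT : F ∈ T := Submodule.subset_span ⟨Sum.inl 1, rfl⟩
    have hk : ∀ l ∈ s, (Pi.single l 1 : Fin (k + 2) → A) ∈ T := by
      intro l hl
      obtain ⟨r, hr⟩ : ∃ r, σ r = l := by
        have : l ∈ Set.range (s.orderEmbOfFin hs) := by rw [Finset.range_orderEmbOfFin]; exact hl
        exact this
      subst hr
      have hπ : π (Pi.single (σ r) 1) ∈ T := Submodule.subset_span ⟨Sum.inr r, rfl⟩
      have := T.add_mem (T.add_mem hπ (T.smul_mem (polar (bq A a) F (Pi.single (σ r) 1)) hET))
        (T.smul_mem (polar (bq A a) E (Pi.single (σ r) 1)) hFT)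
      convert this using 1
      simp only [π, neg_smul]
      abel
    have hmem : ∀ v : Fin (k + 2) → A, v i = 0 → v j = 0 → v ∈ T := by
      intro v hi hj
      rw [← (Pi.basisFun A _).sum_repr v]
      refine Submodule.sum_mem _ fun l _ => ?_
      by_cases hl : l ∈ s
      · rw [Pi.basisFun_apply]
        exact T.smul_mem _ (hk l hl)
      · have : l = i ∨ l = j := by
          simpa [s, Finset.mem_compl, or_iff_not_imp_left] using hl
        rcases this with rfl | rfl <;> simp [hi, hj]
    obtain ⟨d, hd⟩ : IsUnit (E i * F j - E j * F i) := by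
      rw [show E i * F j - E j * F i = algebraMap R A g by simp [hE, hF, hg]]
      exact IsLocalization.Away.algebraMap_isUnit g
    rintro v -
    set α := (↑d⁻¹ : A) * (v i * F j - v j * F i) with hα
    set γ := (↑d⁻¹ : A) * (E i * v j - E j * v i) with hγ
    have hv : v = (v - α • E - γ • F) + α • E + γ • F := by abel
    rw [hv]
    refine T.add_mem (T.add_mem (hmem _ ?_ ?_) (T.smul_mem _ hET)) (T.smul_mem _ hFT)
    · simp only [Pi.sub_apply, Pi.smul_apply, smul_eq_mul, hα, hγ]
      have h := d.inv_mul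
      rw [hd] at h
      linear_combination (-v i) * h
    · simp only [Pi.sub_apply, Pi.smul_apply, smul_eq_mul, hα, hγ]
      have h := d.inv_mul
      rw [hd] at h
      linear_combination (-v j) * h
  let β := basisOfTopLeSpanOfCardEqFinrank fam hspan (by simp [Nat.add_comm])
  have hβ : ∀ r, β r = fam r := fun r => by simp [β]
  refine ⟨β, ?_, ?_, ?_, fun r l => ?_⟩
  · rw [hβ]; exact (bq_ev A a e).trans (by rw [he, map_zero])
  · rw [hβ]; exact (bq_ev A a f).trans (by rw [hf, map_zero])
  · rw [hβ, hβ]; exact hEF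
  · rw [hβ, hβ]
    set w : Fin (k + 2) → A := Pi.single (σ l) 1
    fin_cases r
    · change polar (bq A a) E (π w) = 0
      simp only [π, polar_add_right, polar_smul_right, hEE, hEF, smul_eq_mul]
      ring
    · change polar (bq A a) F (π w) = 0
      simp only [π, polar_add_right, polar_smul_right, hFF, hFE, smul_eq_mul]
      ring

/-- One splitting step: an étale neighbourhood with a hyperbolic plane and an orthogonal complement. -/
theorem exists_step {k : ℕ} (a : Sym2 (Fin (k + 2)) → R) (p : PrimeSpectrum R) {x y : Fin (k + 2) → R}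
    (hx : qf a x ∉ p.asIdeal) (hd : disc (qf a) x y ∉ p.asIdeal) :
    ∃ (B : Type u) (_ : CommRing B) (_ : Algebra R B), Algebra.Etale R B ∧
      ∃ (q : PrimeSpectrum B) (β : Module.Basis (Fin 2 ⊕ Fin k) B (Fin (k + 2) → B)),
        q.asIdeal.comap (algebraMap R B) = p.asIdeal ∧
        bq B a (β (Sum.inl 0)) = 0 ∧ bq B a (β (Sum.inl 1)) = 0 ∧
        polar (bq B a) (β (Sum.inl 0)) (β (Sum.inl 1)) = 1 ∧
        ∀ i l, polar (bq B a) (β (Sum.inl i)) (β (Sum.inr l)) = 0 := by
  obtain ⟨B, _, _, _, q, e, f, hq, he, hf, hef⟩ := exists_pair a p hx hd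
  obtain ⟨g, hg, β, h1, h2, h3, h4⟩ := exists_basis_of_pair (algebraMap R B ∘ a) q he hf hef
  obtain ⟨q', hq'⟩ := exists_prime_away q hg
  let C := Localization.Away g
  haveI : Algebra.Etale B C := Algebra.Etale.of_isLocalizationAway g
  haveI : Algebra.Etale R C := Algebra.Etale.comp R B C
  rw [bq_map (B := B) (B' := C) a] at h1 h2 h3 h4
  refine ⟨C, inferInstance, inferInstance, inferInstance, q', β, ?_, h1, h2, h3, h4⟩
  rw [IsScalarTower.algebraMap_eq R B C, ← Ideal.comap_comap, hq', hq]

end Groth.Agent.QuadSplitLib
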